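/-
The graph on the Sylow subgroups of a finite group (edges: nontrivial intersection), the stabilizer
of a connected component, and the smallest normal subgroup of order divisible by `p` when the graph
is disconnected.
-/
import Cfsg.Prelude.Def_SylowChains
import Cfsg.Agent.Lib.Coprime.Action
import Cfsg.Agent.Lib.CoprimeGen.Basic
import Cfsg.Agent.Lib.Core.SylowFacts
import Cfsg.Agent.Lib.Core.Residual

set_option autoImplicit false
set_option linter.unusedSectionVars false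

namespace Cfsg.Agent.Lib.AlperinStrong.Graph

open Subgroup Cfsg Cfsg.Agent.Lib.Core.SylowFacts
open Cfsg.Agent.Lib.Coprime.Action
open scoped Pointwise

section Main

variable {L : Type*} [Group L] {p : ℕ}

theorem mem_conj_smul_iff {g x : L} {S : Subgroup L} : x ∈ MulAut.conj g • S ↔ g⁻¹ * x * g ∈ S := by
  rw [Subgroup.mem_pointwise_smul_iff_inv_smul_mem]
  simp [MulAut.smul_def]

/-- Adjacency of Sylow subgroups. -/
def adj (S T : Sylow p L) : Prop := (S : Subgroup L) ⊓ (T : Subgroup L) ≠ ⊥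

theorem adj_iff {S T : Sylow p L} :
    adj S T ↔ ∃ u, u ∈ (S : Subgroup L) ∧ u ∈ (T : Subgroup L) ∧ u ≠ 1 := by
  unfold adj
  rw [Ne, Subgroup.eq_bot_iff_forall]
  push Not
  constructor
  · rintro ⟨u, hu, h1⟩
    exact ⟨u, hu.1, hu.2, h1⟩
  · rintro ⟨u, hu, hv, h1⟩
    exact ⟨u, ⟨hu, hv⟩, h1⟩

theorem adj_symm {S T : Sylow p L} (h : adj S T) : adj T S := by
  unfold adj at *
  rwa [inf_comm]

theorem mem_smul_iff {l u : L} {T : Sylow p L} : u ∈ ((l • T : Sylow p L) : Subgroup L) ↔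
    l⁻¹ * u * l ∈ (T : Subgroup L) := by
  rw [Sylow.coe_subgroup_smul, mem_conj_smul_iff]

theorem adj_smul (l : L) {S T : Sylow p L} (h : adj S T) : adj (l • S) (l • T) := by
  obtain ⟨u, hu, hv, h1⟩ := adj_iff.1 h
  refine adj_iff.2 ⟨l * u * l⁻¹, ?_, ?_, ?_⟩
  · rw [mem_smul_iff]
    convert hu using 1
    group
  · rw [mem_smul_iff]
    convert hv using 1
    group
  · intro h2
    apply h1
    have : u = l⁻¹ * (l * u * l⁻¹) * l := by group
    rw [this, h2]
    group

theorem rt_smul (l : L) {S T : Sylow p L} (h : Relation.ReflTransGen adj S T) :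
    Relation.ReflTransGen adj (l • S) (l • T) := by
  induction h with
  | refl => exact Relation.ReflTransGen.refl
  | tail _ h2 ih => exact ih.tail (adj_smul l h2)

theorem rt_symm {S T : Sylow p L} (h : Relation.ReflTransGen adj S T) :
    Relation.ReflTransGen adj T S := by
  induction h with
  | refl => exact Relation.ReflTransGen.refl
  | tail _ h2 ih => exact Relation.ReflTransGen.head (adj_symm h2) ih

/-- The stabilizer of the connected component of `T₀`. -/
def comp (T₀ : Sylow p L) : Subgroup L where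
  carrier := {l | Relation.ReflTransGen adj T₀ (l • T₀)}
  mul_mem' := by
    intro a b ha hb
    show Relation.ReflTransGen adj T₀ ((a * b) • T₀)
    rw [mul_smul]
    exact Relation.ReflTransGen.trans ha (rt_smul a hb)
  one_mem' := by
    show Relation.ReflTransGen adj T₀ ((1 : L) • T₀)
    rw [one_smul]
  inv_mem' := by
    intro a ha
    have h : Relation.ReflTransGen adj (a⁻¹ • T₀) (a⁻¹ • a • T₀) := rt_smul a⁻¹ ha
    rw [inv_smul_smul] at h
    exact rt_symm h

theorem mem_comp_iff {T₀ : Sylow p L} {l : L} :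
    l ∈ comp T₀ ↔ Relation.ReflTransGen adj T₀ (l • T₀) := Iff.rfl

theorem mem_comp_of_conj_mem {T₀ : Sylow p L} {l u : L} (hu : u ∈ (T₀ : Subgroup L)) (hu1 : u ≠ 1)
    (h : l * u * l⁻¹ ∈ (T₀ : Subgroup L)) : l ∈ comp T₀ := by
  refine Relation.ReflTransGen.single (adj_iff.2 ⟨l * u * l⁻¹, h, ?_, ?_⟩)
  · rw [mem_smul_iff]
    convert hu using 1
    group
  · intro h2
    apply hu1
    have : u = l⁻¹ * (l * u * l⁻¹) * l := by group
    rw [this, h2]
    group

theorem exists_chain {S T : Sylow p L} (h : Relation.ReflTransGen adj S T) :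
    ∃ (n : ℕ) (c : Fin (n + 1) → Sylow p L), c 0 = S ∧ c (Fin.last n) = T ∧
      ∀ i : Fin n, c i.castSucc ≠ c i.succ ∧
        (c i.castSucc : Subgroup L) ⊓ (c i.succ : Subgroup L) ≠ ⊥ := by
  induction h with
  | refl => exact ⟨0, fun _ => S, rfl, rfl, fun i => i.elim0⟩
  | @tail b c _ hbc ih =>
    obtain ⟨n, f, h0, hl, hs⟩ := ih
    by_cases e : b = c
    · subst e
      exact ⟨n, f, h0, hl, hs⟩
    · let F : Fin (n + 1 + 1) → Sylow p L := Fin.snoc (α := fun _ => Sylow p L) f c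
      have hF1 : ∀ i : Fin (n + 1), F i.castSucc = f i := fun i => by
        simp [F, Fin.snoc_castSucc]
      have hF2 : F (Fin.last (n + 1)) = c := by simp [F, Fin.snoc_last]
      refine ⟨n + 1, F, ?_, hF2, ?_⟩
      · rw [show (0 : Fin (n + 1 + 1)) = Fin.castSucc 0 from rfl, hF1, h0]
      · intro i
        refine Fin.lastCases ?_ (fun j => ?_) i
        · rw [hF1, Fin.succ_last, hF2, hl]
          exact ⟨e, hbc⟩
        · rw [hF1, Fin.succ_castSucc, hF1]
          exact hs j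

theorem connected_of_forall_rt (h : ∀ S T : Sylow p L, Relation.ReflTransGen adj S T) :
    IsSylowChainConnected p L := by
  intro S T
  by_cases hb : (S : Subgroup L) ⊓ (T : Subgroup L) = ⊥
  · obtain ⟨n, c, h0, hl, hs⟩ := exists_chain (h S T)
    refine ⟨n, c, h0, hl, ?_, hs⟩
    intro i
    rw [hb]
    exact bot_le
  · by_cases e : S = T
    · subst e
      exact ⟨0, fun _ => S, rfl, rfl, fun _ => inf_le_left, fun i => i.elim0⟩
    · refine ⟨1, ![S, T], rfl, rfl, ?_, ?_⟩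
      · intro i
        fin_cases i
        · exact inf_le_left
        · exact inf_le_right
      · intro i
        fin_cases i
        exact ⟨e, hb⟩

theorem rt_of_connected (h : IsSylowChainConnected p L) (S T : Sylow p L) :
    Relation.ReflTransGen adj S T := by
  obtain ⟨n, c, h0, hl, -, hs⟩ := h S T
  have key : ∀ i : Fin (n + 1), Relation.ReflTransGen adj S (c i) := by
    intro i
    induction i using Fin.induction with
    | zero => rw [h0]
    | succ i ih => exact ih.tail (hs i).2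
  rw [← hl]
  exact key _

variable [Finite L] [Fact p.Prime]

theorem connected_of_comp_eq_top (T₀ : Sylow p L) (h : comp T₀ = ⊤) :
    IsSylowChainConnected p L := by
  apply connected_of_forall_rt
  have key : ∀ S : Sylow p L, Relation.ReflTransGen adj T₀ S := by
    intro S
    obtain ⟨l, rfl⟩ := MulAction.exists_smul_eq L T₀ S
    have : l ∈ comp T₀ := by rw [h]; trivial
    exact this
  intro S T
  exact (rt_symm (key S)).trans (key T)

theorem exists_residual_mul (T₀ : Sylow p L) (Y : Subgroup L) [Y.Normal] (hY : p ∣ Nat.card Y)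
    (l : L) : ∃ y ∈ (pResidual p ↥Y).map Y.subtype, ∃ m ∈ comp T₀, l = y * m := by
  classical
  let Q₁ : Sylow p Y := sylowOfNormal T₀ Y
  let Q₂ : Sylow p Y := sylowOfNormal (l • T₀) Y
  obtain ⟨z, hz⟩ := MulAction.exists_smul_eq Y Q₁ Q₂
  have h1 := Cfsg.Agent.Lib.Core.Residual.sylow_sup_pResidual Q₁
  have hzm : z⁻¹ ∈ (Q₁ : Subgroup Y) ⊔ pResidual p Y := by
    rw [h1]
    trivial
  obtain ⟨s, hs, r, hr, e⟩ := Subgroup.mem_sup_of_normal_right.1 hzm
  have hzz : z = r⁻¹ * s⁻¹ := by rw [← mul_inv_rev, e, inv_inv]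
  have hQ : r⁻¹ • Q₁ = Q₂ := by
    have hs' : s⁻¹ • Q₁ = Q₁ :=
      Sylow.smul_eq_iff_mem_normalizer.2 (Subgroup.le_normalizer (inv_mem hs))
    rw [← hz, hzz, mul_smul, hs']
  obtain ⟨u, hu, hu1⟩ := (Subgroup.ne_bot_iff_exists_ne_one.1 (Sylow.ne_bot_of_dvd_card Q₂ hY)) |>.elim
    (fun u hu => (⟨(u : Y), u.2, fun h => hu (Subtype.ext h)⟩ : ∃ u : Y, u ∈ (Q₂ : Subgroup Y) ∧ u ≠ 1))
  have hu2 : (u : L) ∈ ((l • T₀ : Sylow p L) : Subgroup L) := by
    have : u ∈ ((l • T₀ : Sylow p L) : Subgroup L).subgroupOf Y := hu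
    exact mem_subgroupOf.1 this
  have hu3 : ((r⁻¹ : Y) : L)⁻¹ * (u : L) * ((r⁻¹ : Y) : L) ∈ (T₀ : Subgroup L) := by
    rw [← hQ, mem_smul_iff] at hu
    have : ((r⁻¹ : Y)⁻¹ * u * (r⁻¹ : Y)) ∈ (T₀ : Subgroup L).subgroupOf Y := hu
    exact mem_subgroupOf.1 this
  refine ⟨((r⁻¹ : Y) : L), ⟨r⁻¹, inv_mem hr, rfl⟩, ((r⁻¹ : Y) : L)⁻¹ * l, ?_, by group⟩
  apply Relation.ReflTransGen.single
  have h2 : adj (((r⁻¹ : Y) : L) • T₀) (l • T₀) := by
    refine adj_iff.2 ⟨(u : L), ?_, hu2, ?_⟩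
    · rw [mem_smul_iff]
      exact hu3
    · intro h
      exact hu1 (Subtype.ext h)
  have h3 := adj_smul ((r⁻¹ : Y) : L)⁻¹ h2
  rwa [inv_smul_smul, ← mul_smul] at h3

theorem exists_order_p (T₀ : Sylow p L) (Y : Subgroup L) [Y.Normal] (hY : p ∣ Nat.card Y) :
    ∃ a, a ∈ (T₀ : Subgroup L) ∧ a ∈ Y ∧ orderOf a = p := by
  have hp : p.Prime := Fact.out
  let Q : Sylow p Y := sylowOfNormal T₀ Y
  have h1 : p ∣ Nat.card (Q : Subgroup Y) := by
    have h2 := Subgroup.card_mul_index (Q : Subgroup Y)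
    rw [← h2] at hY
    exact (hp.dvd_mul.1 hY).resolve_right Q.not_dvd_index
  obtain ⟨x, hx⟩ := exists_prime_orderOf_dvd_card' p h1
  refine ⟨((x : Y) : L), ?_, (x : Y).2, ?_⟩
  · have : (x : Y) ∈ (T₀ : Subgroup L).subgroupOf Y := x.2
    exact mem_subgroupOf.1 this
  · have e1 : orderOf ((x : Y) : L) = orderOf (x : Y) := Subgroup.orderOf_coe _
    have e2 : orderOf (x : Y) = orderOf x := Subgroup.orderOf_coe _
    rw [e1, e2, hx]

theorem dvd_card_inf (hc : ¬ IsSylowChainConnected p L) {Y₁ Y₂ : Subgroup L} [hn₁ : Y₁.Normal]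
    [hn₂ : Y₂.Normal] (h₁ : p ∣ Nat.card Y₁) (h₂ : p ∣ Nat.card Y₂) :
    p ∣ Nat.card ↥(Y₁ ⊓ Y₂) := by
  classical
  have hp : p.Prime := Fact.out
  by_contra hD
  apply hc
  obtain ⟨T₀⟩ : Nonempty (Sylow p L) := inferInstance
  apply connected_of_comp_eq_top T₀
  obtain ⟨a, haT, haY, hao⟩ := exists_order_p T₀ Y₁ h₁
  obtain ⟨b, hbT, hbY, hbo⟩ := exists_order_p T₀ Y₂ h₂
  have hDp : ∀ x ∈ (T₀ : Subgroup L), x ∈ Y₁ → x ∈ Y₂ → x = 1 := by
    intro x hx h1 h2
    obtain ⟨k, hk⟩ := T₀.isPGroup' ⟨x, hx⟩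
    have hk' : x ^ p ^ k = 1 := congrArg Subtype.val hk
    have hd1 : orderOf x ∣ p ^ k := orderOf_dvd_of_pow_eq_one hk'
    have hd2 : orderOf x ∣ Nat.card ↥(Y₁ ⊓ Y₂) := Subgroup.orderOf_dvd_natCard _ ⟨h1, h2⟩
    have hcop : Nat.Coprime (p ^ k) (Nat.card ↥(Y₁ ⊓ Y₂)) :=
      Nat.Coprime.pow_left _ ((Nat.Prime.coprime_iff_not_dvd hp).2 hD)
    exact orderOf_eq_one_iff.1 (Nat.eq_one_of_dvd_coprimes hcop hd1 hd2)
  have ha1 : a ≠ 1 := by
    rintro rfl
    rw [orderOf_one] at hao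
    exact hp.one_lt.ne hao
  have hb1 : b ≠ 1 := by
    rintro rfl
    rw [orderOf_one] at hbo
    exact hp.one_lt.ne hbo
  have hcomm : a * b = b * a := by
    have hc1 : a * b * a⁻¹ * b⁻¹ = 1 := by
      apply hDp
      · exact mul_mem (mul_mem (mul_mem haT hbT) (inv_mem haT)) (inv_mem hbT)
      · have : a * b * a⁻¹ * b⁻¹ = a * (b * a⁻¹ * b⁻¹) := by group
        rw [this]
        exact mul_mem haY (hn₁.conj_mem _ (inv_mem haY) b)
      · exact mul_mem (hn₂.conj_mem _ hbY a) (inv_mem hbY)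
    calc a * b = a * b * a⁻¹ * b⁻¹ * (b * a) := by group
      _ = b * a := by rw [hc1, one_mul]
  let W : Subgroup L := closure {a, b}
  have hWT : W ≤ T₀ := by
    rw [closure_le]
    rintro x (rfl | rfl)
    · exact haT
    · exact hbT
  have hc1 : W ≤ centralizer ({a, b} : Set L) := by
    rw [closure_le]
    rintro x (rfl | rfl)
    · rw [SetLike.mem_coe, mem_centralizer_iff]
      rintro y (rfl | rfl)
      · rfl
      · exact hcomm.symm
    · rw [SetLike.mem_coe, mem_centralizer_iff]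
      rintro y (rfl | rfl)
      · exact hcomm
      · rfl
  have hc2 : W ≤ centralizer (W : Set L) := by
    rw [closure_le]
    intro x hx
    rw [SetLike.mem_coe, mem_centralizer_iff]
    intro y hy
    exact ((mem_centralizer_iff.1 (hc1 hy)) x hx).symm
  have hW : IsElementaryAbelian p W := by
    refine ⟨⟨⟨fun x y => Subtype.ext (mem_centralizer_iff.1 (hc2 y.2) x x.2)⟩⟩, ?_⟩
    intro x hx
    induction hx using closure_induction with
    | mem x hx =>
      rcases hx with rfl | rfl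
      · rw [← hao, pow_orderOf_eq_one]
      · rw [← hbo, pow_orderOf_eq_one]
    | one => simp
    | mul x y hx hy ihx ihy =>
      have : Commute x y := (mem_centralizer_iff.1 (hc2 hx) y hy).symm
      rw [this.mul_pow, ihx, ihy, one_mul]
    | inv x hx ih => rw [inv_pow, ih, inv_one]
  have hWD : W ≤ normalizer ((Y₁ ⊓ Y₂ : Subgroup L) : Set L) := by
    have : (Y₁ ⊓ Y₂).Normal := inferInstance
    rw [normalizer_eq_top]
    exact le_top
  have hDM : Y₁ ⊓ Y₂ ≤ comp T₀ := by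
    rw [Cfsg.Agent.Lib.CoprimeGen.Basic.eq_hyperJoin hW hD hWD]
    refine iSup_le ?_
    rintro ⟨B, hBW, hBi⟩ z ⟨-, hz⟩
    have hB : B ≠ ⊥ := by
      rintro rfl
      rw [relIndex_bot_left] at hBi
      have h1 : Subgroup.zpowers a ≤ W := by
        rw [zpowers_le]
        exact subset_closure (Set.mem_insert _ _)
      have h2 : Nat.card (Subgroup.zpowers a) = p := by
        rw [Nat.card_zpowers, hao]
      have h3 := Subgroup.eq_of_le_of_card_ge h1 (by rw [h2]; exact hBi)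
      have h4 : b ∈ Subgroup.zpowers a := by
        rw [h3]
        exact subset_closure (Set.mem_insert_of_mem _ rfl)
      have h5 : Subgroup.zpowers a ≤ Y₁ := by
        rw [zpowers_le]
        exact haY
      exact hb1 (hDp b hbT (h5 h4) hbY)
    obtain ⟨w, hw, hw1⟩ : ∃ w, w ∈ B ∧ w ≠ 1 := by
      obtain ⟨w, hw⟩ := Subgroup.ne_bot_iff_exists_ne_one.1 hB
      exact ⟨w, w.2, fun h => hw (Subtype.ext h)⟩
    refine mem_comp_of_conj_mem (hWT (hBW hw)) hw1 ?_
    have h1 : w * z = z * w := mem_centralizer_iff.1 hz w hw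
    have h2 : z * w * z⁻¹ = w := by rw [← h1]; group
    rw [h2]
    exact hWT (hBW hw)
  have hY₂M : Y₂ ≤ comp T₀ := by
    intro y hy
    let A : Subgroup L := Subgroup.zpowers a
    have hAT : A ≤ T₀ := by
      rw [zpowers_le]
      exact haT
    have hAD : (Y₁ ⊓ Y₂) ⊓ A = ⊥ := by
      rw [eq_bot_iff]
      rintro x ⟨⟨h1, h2⟩, h3⟩
      exact hDp x (hAT h3) h1 h2
    have hDn : (Y₁ ⊓ Y₂).Normal := inferInstance
    have hAN : A ≤ normalizer ((Y₁ ⊓ Y₂ : Subgroup L) : Set L) := by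
      rw [normalizer_eq_top]
      exact le_top
    have hcard := card_sup_of_le_normalizer hAN hAD
    have hAs : IsSylowIn p A ((Y₁ ⊓ Y₂) ⊔ A) := by
      refine ⟨le_sup_right, T₀.isPGroup'.to_le hAT, ?_⟩
      have h1 := card_eq_card_mul_relIndex (le_sup_right : A ≤ (Y₁ ⊓ Y₂) ⊔ A)
      rw [← hcard] at h1
      have h2 : Nat.card ↥(Y₁ ⊓ Y₂) = A.relIndex ((Y₁ ⊓ Y₂) ⊔ A) :=
        Nat.eq_of_mul_eq_mul_left (Nat.card_pos (α := ↥A)) (by rw [← h1, mul_comm])
      rw [← h2]
      exact hD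
    have hconjle : MulAut.conj y • A ≤ (Y₁ ⊓ Y₂) ⊔ A := by
      intro x hx
      rw [mem_conj_smul_iff] at hx
      obtain ⟨k, hk⟩ : ∃ k : ℤ, a ^ k = y⁻¹ * x * y := Subgroup.mem_zpowers_iff.1 hx
      have hx2 : x = (y * a * y⁻¹) ^ k := by
        rw [conj_zpow, hk]
        group
      rw [hx2]
      refine zpow_mem ?_ k
      have hya : y * a * y⁻¹ = (y * a * y⁻¹ * a⁻¹) * a := by group
      rw [hya]
      refine Subgroup.mul_mem _ (Subgroup.mem_sup_left (Subgroup.mem_inf.2 ⟨?_, ?_⟩))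
        (Subgroup.mem_sup_right (Subgroup.mem_zpowers a))
      · exact mul_mem (hn₁.conj_mem _ haY y) (inv_mem haY)
      · have : y * a * y⁻¹ * a⁻¹ = y * (a * y⁻¹ * a⁻¹) := by group
        rw [this]
        exact mul_mem hy (hn₂.conj_mem _ (inv_mem hy) a)
    have hAs' : IsSylowIn p (MulAut.conj y • A) ((Y₁ ⊓ Y₂) ⊔ A) := by
      refine ⟨hconjle, hAs.2.1.map _, ?_⟩
      rw [relIndex_eq_of_card_eq hconjle hAs.1 (Cfsg.Agent.Lib.Coprime.SchurZassenhaus.card_conj_smul y A)]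
      exact hAs.2.2
    obtain ⟨e, he, hes⟩ := hAs.exists_conj hAs'
    obtain ⟨d, hd, t, ht, rfl⟩ := Subgroup.mem_sup_of_normal_left.1 he
    have hes2 : MulAut.conj d • A = MulAut.conj y • A := by
      rw [← hes, map_mul, mul_smul, conj_smul_self_of_mem_normalizer (Subgroup.le_normalizer ht)]
    have hmem : y * a * y⁻¹ ∈ MulAut.conj d • A := by
      rw [hes2, mem_conj_smul_iff]
      have : y⁻¹ * (y * a * y⁻¹) * y = a := by group
      rw [this]
      exact Subgroup.mem_zpowers a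
    rw [mem_conj_smul_iff] at hmem
    have hz : d⁻¹ * y ∈ comp T₀ := by
      refine mem_comp_of_conj_mem haT ha1 ?_
      have : d⁻¹ * y * a * (d⁻¹ * y)⁻¹ = d⁻¹ * (y * a * y⁻¹) * d := by group
      rw [this]
      exact hAT hmem
    have hy2 : y = d * (d⁻¹ * y) := by group
    rw [hy2]
    exact mul_mem (hDM hd) hz
  have htop : comp T₀ = ⊤ := by
    rw [eq_top_iff]
    intro l _
    obtain ⟨y, hy, m, hm, rfl⟩ := exists_residual_mul T₀ Y₂ h₂ l
    refine mul_mem (hY₂M ?_) hm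
    obtain ⟨r, -, rfl⟩ := hy
    exact r.2
  exact htop

theorem exists_min_normal (hc : ¬ IsSylowChainConnected p L) :
    ∃ X : Subgroup L, X.Normal ∧ p ∣ Nat.card X ∧
      ∀ Y : Subgroup L, Y.Normal → p ∣ Nat.card Y → X ≤ Y := by
  classical
  have hp : p.Prime := Fact.out
  have htop : p ∣ Nat.card (⊤ : Subgroup L) := by
    by_contra h
    apply hc
    rw [Subgroup.card_top] at h
    have hbot : ∀ S : Sylow p L, (S : Subgroup L) = ⊥ := by
      intro S
      obtain ⟨k, hk⟩ := IsPGroup.iff_card.1 S.isPGroup'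
      have hd := Subgroup.card_subgroup_dvd_card (S : Subgroup L)
      rw [hk] at hd
      have hk0 : k = 0 := by
        by_contra hk0
        exact h ((dvd_pow_self p hk0).trans hd)
      rw [hk0, pow_zero] at hk
      exact Subgroup.eq_bot_of_card_eq _ hk
    apply connected_of_forall_rt
    intro S T
    have : S = T := Sylow.ext (by rw [hbot, hbot])
    rw [this]
  obtain ⟨X, hX⟩ := Set.Finite.exists_minimal (Set.toFinite {Y : Subgroup L | Y.Normal ∧ p ∣ Nat.card Y})
    ⟨⊤, inferInstance, htop⟩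
  refine ⟨X, hX.1.1, hX.1.2, ?_⟩
  intro Y hYn hYd
  haveI := hX.1.1
  haveI := hYn
  have h := hX.2 ⟨inferInstance, dvd_card_inf hc hX.1.2 hYd⟩ (inf_le_left : X ⊓ Y ≤ X)
  exact h.trans inf_le_right

end Main

end Cfsg.Agent.Lib.AlperinStrong.Graph
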