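/-
The essential data `(H, X)` of the strong Alperin--Goldschmidt theorem, and its invariance under
automorphisms of the ambient group fixing the Sylow subgroup.
-/
import Cfsg.Agent.Lib.AlperinStrong.Graph
import Cfsg.Agent.Lib.Core.Series
import Cfsg.Prelude.Def_Local

set_option autoImplicit false
set_option linter.unusedSectionVars false

namespace Cfsg.Agent.Lib.AlperinStrong.Ess

open Subgroup Cfsg Cfsg.Agent.Lib.AlperinStrong.Graph
open Cfsg.Agent.Lib.Core.Series Cfsg.Agent.Lib.Core.Residual
open scoped Pointwise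

section Equiv

variable {A B : Type*} [Group A] [Group B] {p : ℕ}

theorem connected_of_equiv [Finite A] [Fact p.Prime] (E : A ≃* B)
    (h : IsSylowChainConnected p A) : IsSylowChainConnected p B := by
  classical
  haveI : Finite B := Finite.of_equiv A E.toEquiv
  have hsE : Function.Surjective E.toMonoidHom := E.surjective
  have hsE' : Function.Surjective E.symm.toMonoidHom := E.symm.surjective
  intro S T
  let S₀ : Sylow p A := S.mapSurjective hsE'
  let T₀ : Sylow p A := T.mapSurjective hsE'
  have hback : ∀ U : Sylow p B, (U.mapSurjective hsE').mapSurjective hsE = U := by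
    intro U
    apply Sylow.ext
    rw [Sylow.coe_mapSurjective, Sylow.coe_mapSurjective]
    ext x
    constructor
    · rintro ⟨_, ⟨y, hy, rfl⟩, rfl⟩
      show E (E.symm y) ∈ (U : Subgroup B)
      rw [E.apply_symm_apply]
      exact hy
    · intro hx
      exact ⟨E.symm x, ⟨x, hx, rfl⟩, by simp⟩
  obtain ⟨n, c, h0, hl, hsub, hs⟩ := h S₀ T₀
  refine ⟨n, fun i => (c i).mapSurjective hsE, ?_, ?_, ?_, ?_⟩
  · show (c 0).mapSurjective hsE = S
    rw [h0]
    exact hback S
  · show (c (Fin.last n)).mapSurjective hsE = T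
    rw [hl]
    exact hback T
  · intro i x hx
    rw [Sylow.coe_mapSurjective]
    have h1 : E.symm x ∈ (S₀ : Subgroup A) ⊓ (T₀ : Subgroup A) := by
      refine ⟨?_, ?_⟩
      · rw [Sylow.coe_mapSurjective]
        exact ⟨x, hx.1, rfl⟩
      · rw [Sylow.coe_mapSurjective]
        exact ⟨x, hx.2, rfl⟩
    exact ⟨E.symm x, hsub i h1, by simp⟩
  · intro i
    refine ⟨?_, ?_⟩
    · intro he
      apply (hs i).1
      apply Sylow.ext
      have he2 := congrArg (fun U : Sylow p B => (U : Subgroup B)) he
      simp only [Sylow.coe_mapSurjective] at he2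
      exact Subgroup.map_injective E.injective he2
    · obtain ⟨u, h1, h2, h3⟩ := adj_iff.1 (hs i).2
      refine adj_iff.2 ⟨E u, ?_, ?_, ?_⟩
      · rw [Sylow.coe_mapSurjective]
        exact ⟨u, h1, rfl⟩
      · rw [Sylow.coe_mapSurjective]
        exact ⟨u, h2, rfl⟩
      · intro h4
        exact h3 (by simpa using h4)

end Equiv

section Main

variable {G : Type*} [Group G] {p : ℕ}

/-- The restriction of an automorphism. -/
def resEquiv (e : G ≃* G) (A B : Subgroup G) (h : ∀ x, x ∈ A ↔ e x ∈ B) : ↥A ≃* ↥B where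
  toFun a := ⟨e a, (h a).1 a.2⟩
  invFun b := ⟨e.symm b, (h _).2 (by simpa using b.2)⟩
  left_inv a := Subtype.ext (by simp)
  right_inv b := Subtype.ext (by simp)
  map_mul' a b := Subtype.ext (by simp)

@[simp] theorem resEquiv_coe (e : G ≃* G) (A B : Subgroup G) (h : ∀ x, x ∈ A ↔ e x ∈ B) (a : ↥A) :
    ((resEquiv e A B h a : ↥B) : G) = e a := rfl

theorem mem_map_iff (e : G ≃* G) (A : Subgroup G) (x : G) :
    x ∈ A ↔ e x ∈ A.map e.toMonoidHom := by
  constructor
  · intro hx
    exact ⟨x, hx, rfl⟩
  · rintro ⟨y, hy, hxy⟩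
    have : y = x := e.injective hxy
    rwa [← this]

theorem mem_normalizer_map_iff (e : G ≃* G) (H : Subgroup G) (x : G) :
    x ∈ normalizer (H : Set G) ↔ e x ∈ normalizer ((H.map e.toMonoidHom : Subgroup G) : Set G) := by
  rw [← map_equiv_normalizer_eq H e]
  exact mem_map_iff e _ x

theorem mem_centralizer_map_iff (e : G ≃* G) (H : Subgroup G) (x : G) :
    x ∈ centralizer (H : Set G) ↔ e x ∈ centralizer ((H.map e.toMonoidHom : Subgroup G) : Set G) := by
  rw [mem_centralizer_iff, mem_centralizer_iff]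
  constructor
  · rintro h _ ⟨y, hy, rfl⟩
    have := congrArg e (h y hy)
    simpa using this
  · intro h y hy
    have := h (e y) ⟨y, hy, rfl⟩
    apply e.injective
    simpa using this

theorem relIndex_map (e : G ≃* G) (A B : Subgroup G) :
    (A.map e.toMonoidHom).relIndex (B.map e.toMonoidHom) = A.relIndex B := by
  rw [Subgroup.relIndex_map_map]
  have : e.toMonoidHom.ker = ⊥ := (MonoidHom.ker_eq_bot_iff _).2 e.injective
  rw [this, sup_bot_eq, sup_bot_eq]

variable [Finite G] [Fact p.Prime]

/-- The data of the statement, apart from the element. -/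
structure EssD (P : Sylow p G) (H X : Subgroup G) : Prop where
  le : H ≤ (P : Subgroup G)
  tame : ¬ p ∣ ((P : Subgroup G) ⊓ normalizer (H : Set G)).relIndex (normalizer (H : Set G))
  cp : (P : Subgroup G) ⊓ centralizer (H : Set G) ≤ H
  core : (pPrimePCore p ↥(normalizer (H : Set G))).map (normalizer (H : Set G)).subtype =
    H ⊔ centralizer (H : Set G)
  disc : ¬ IsSylowChainConnected p
    (↥(normalizer (H : Set G)) ⧸ H.subgroupOf (normalizer (H : Set G)))
  hX : H ≤ X
  Xle : X ≤ normalizer (H : Set G)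
  Xn : (X.subgroupOf (normalizer (H : Set G))).Normal
  Xd : p ∣ H.relIndex X
  Xmin : ∀ Y : Subgroup G, H ≤ Y → Y ≤ normalizer (H : Set G) →
    (Y.subgroupOf (normalizer (H : Set G))).Normal → p ∣ H.relIndex Y → X ≤ Y

theorem EssD.map {P : Sylow p G} {H X : Subgroup G} (h : EssD P H X) (e : G ≃* G)
    (hP : (P : Subgroup G).map e.toMonoidHom = P) :
    EssD P (H.map e.toMonoidHom) (X.map e.toMonoidHom) := by
  have hPm : ∀ x, x ∈ (P : Subgroup G) ↔ e x ∈ (P : Subgroup G) := by
    intro x
    conv_rhs => rw [← hP]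
    exact mem_map_iff e _ x
  have hNm := mem_normalizer_map_iff e H
  have hNeq : (normalizer (H : Set G)).map e.toMonoidHom =
      normalizer ((H.map e.toMonoidHom : Subgroup G) : Set G) := map_equiv_normalizer_eq H e
  let e' := resEquiv e (normalizer (H : Set G)) (normalizer ((H.map e.toMonoidHom : Subgroup G) : Set G)) hNm
  refine ⟨?_, ?_, ?_, ?_, ?_, ?_, ?_, ?_, ?_, ?_⟩
  · -- le
    rw [← hP]
    exact Subgroup.map_mono h.le
  · -- tame
    have h1 : (P : Subgroup G) ⊓ normalizer ((H.map e.toMonoidHom : Subgroup G) : Set G) =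
        ((P : Subgroup G) ⊓ normalizer (H : Set G)).map e.toMonoidHom := by
      rw [Subgroup.map_inf _ _ _ e.injective, hP, hNeq]
    rw [h1, ← hNeq, relIndex_map]
    exact h.tame
  · -- cp
    rintro x ⟨hx1, hx2⟩
    have h1 : e.symm x ∈ (P : Subgroup G) := by
      rw [hPm, e.apply_symm_apply]
      exact hx1
    have h2 : e.symm x ∈ centralizer (H : Set G) := by
      refine (mem_centralizer_map_iff e H _).2 ?_
      rw [e.apply_symm_apply]
      exact hx2
    have h3 := h.cp ⟨h1, h2⟩
    exact ⟨_, h3, by simp⟩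
  · -- core
    have h1 := map_pPrimePCore_equiv (p := p) e'
    rw [← h1, Subgroup.map_map]
    have h2 : (normalizer ((H.map e.toMonoidHom : Subgroup G) : Set G)).subtype.comp e'.toMonoidHom =
        e.toMonoidHom.comp (normalizer (H : Set G)).subtype := by
      ext x
      rfl
    rw [h2, ← Subgroup.map_map, h.core, Subgroup.map_sup]
    congr 1
    ext x
    constructor
    · rintro ⟨y, hy, rfl⟩
      exact (mem_centralizer_map_iff e H y).1 hy
    · intro hx
      refine ⟨e.symm x, ?_, by simp⟩
      refine (mem_centralizer_map_iff e H _).2 ?_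
      rw [e.apply_symm_apply]
      exact hx
  · -- disc
    intro hc
    apply h.disc
    have hker : ((H.subgroupOf (normalizer (H : Set G)))).map e'.toMonoidHom =
        (H.map e.toMonoidHom).subgroupOf (normalizer ((H.map e.toMonoidHom : Subgroup G) : Set G)) := by
      ext x
      constructor
      · rintro ⟨y, hy, rfl⟩
        exact mem_subgroupOf.2 ⟨y, mem_subgroupOf.1 hy, rfl⟩
      · intro hx
        obtain ⟨y, hy, hyx⟩ := mem_subgroupOf.1 hx
        refine ⟨e'.symm x, mem_subgroupOf.2 ?_, e'.apply_symm_apply x⟩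
        have : ((e'.symm x : ↥(normalizer (H : Set G))) : G) = y := by
          have : e y = x := hyx
          show e.symm x = y
          rw [← this]
          simp
        rw [this]
        exact hy
    let E := QuotientGroup.congr _ _ e' hker
    exact connected_of_equiv E.symm hc
  · -- hX
    exact Subgroup.map_mono h.hX
  · -- Xle
    rw [← hNeq]
    exact Subgroup.map_mono h.Xle
  · -- Xn
    have hXn := h.Xn
    constructor
    intro n hn g
    rw [mem_subgroupOf] at hn ⊢
    have h1 : e.symm (n : G) ∈ X := by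
      rw [mem_map_iff e]
      simpa using hn
    let n₀ : ↥(normalizer (H : Set G)) := ⟨e.symm n, (hNm _).2 (by simpa using n.2)⟩
    let g₀ : ↥(normalizer (H : Set G)) := ⟨e.symm g, (hNm _).2 (by simpa using g.2)⟩
    have h2 : n₀ ∈ X.subgroupOf (normalizer (H : Set G)) := mem_subgroupOf.2 h1
    have h3 := hXn.conj_mem n₀ h2 g₀
    rw [mem_subgroupOf] at h3
    refine ⟨_, h3, ?_⟩
    simp [n₀, g₀]
    rfl
  · -- Xd
    rw [relIndex_map]
    exact h.Xd
  · -- Xmin
    intro Y hHY hYN hYn hYd
    have hY : (Y.comap e.toMonoidHom).map e.toMonoidHom = Y :=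
      Subgroup.map_comap_eq_self_of_surjective e.surjective Y
    have hmin := h.Xmin (Y.comap e.toMonoidHom) ?_ ?_ ?_ ?_
    · rw [← hY]
      exact Subgroup.map_mono hmin
    · exact (Subgroup.map_le_iff_le_comap).1 hHY
    · intro x hx
      exact (hNm x).2 (hYN hx)
    · constructor
      intro n hn g
      rw [mem_subgroupOf] at hn ⊢
      let n₁ : ↥(normalizer ((H.map e.toMonoidHom : Subgroup G) : Set G)) := ⟨e n, (hNm _).1 n.2⟩
      let g₁ : ↥(normalizer ((H.map e.toMonoidHom : Subgroup G) : Set G)) := ⟨e g, (hNm _).1 g.2⟩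
      have h2 : n₁ ∈ Y.subgroupOf (normalizer ((H.map e.toMonoidHom : Subgroup G) : Set G)) :=
        mem_subgroupOf.2 hn
      have h3 := hYn.conj_mem n₁ h2 g₁
      rw [mem_subgroupOf] at h3
      have h5 : ((g₁ * n₁ * g₁⁻¹ : ↥(normalizer ((H.map e.toMonoidHom : Subgroup G) : Set G))) : G) =
          e ((g * n * g⁻¹ : ↥(normalizer (H : Set G))) : G) := by
        simp [g₁, n₁]
        rfl
      rw [h5] at h3
      exact h3
    · rw [← relIndex_map e, hY]
      exact hYd

theorem mem_residual_map {X : Subgroup G} {x : G} (hx : x ∈ (pResidual p ↥X).map X.subtype)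
    (e : G ≃* G) :
    e x ∈ (pResidual p ↥(X.map e.toMonoidHom)).map (X.map e.toMonoidHom).subtype := by
  obtain ⟨r, hr, rfl⟩ := hx
  let e' := resEquiv e X (X.map e.toMonoidHom) (mem_map_iff e X)
  refine ⟨e' r, ?_, rfl⟩
  rw [← map_pResidual_equiv e']
  exact ⟨r, hr, rfl⟩

end Main

end Cfsg.Agent.Lib.AlperinStrong.Ess
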