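/-
The strong Alperin--Goldschmidt fusion theorem.
-/
import Cfsg.Agent.Lib.AlperinStrong.Ess
import Cfsg.Agent.Lib.PLocal.AlperinG

set_option autoImplicit false
set_option linter.unusedSectionVars false

namespace Cfsg.Agent.Lib.AlperinStrong.Main

open Subgroup Cfsg Cfsg.Agent.Lib.AlperinStrong.Graph Cfsg.Agent.Lib.AlperinStrong.Ess
open Cfsg.Agent.Lib.Core.Series Cfsg.Agent.Lib.Core.Residual Cfsg.Agent.Lib.Core.Basic
open Cfsg.Agent.Lib.PLocal.Alperin Cfsg.Agent.Lib.PLocal.AlperinG
open scoped Pointwise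

variable {G : Type*} [Group G] [Finite G] {p : ℕ} [Fact p.Prime] (P : Sylow p G)

/-- The labels: either a normalizer step of `P`, or an essential step. -/
def StE : Option (Subgroup G × Subgroup G) → G → Prop
  | none, x => x ∈ normalizer ((P : Subgroup G) : Set G)
  | some c, x => EssD P c.1 c.2 ∧ x ∈ (pResidual p ↥c.2).map c.2.subtype

/-- The domains. -/
def DomE : Option (Subgroup G × Subgroup G) → Set G
  | none => ((P : Subgroup G) : Set G)
  | some c => (c.1 : Set G)

/-- `g` acts on `A` like a product along a chain. -/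
def GE (A : Set G) (g : G) : Prop :=
  ∃ g', Reach (StE P) (DomE P) A g' ∧ ∀ a ∈ A, g⁻¹ * a * g = g'⁻¹ * a * g'

variable {P}

lemma GE.mono {A B : Set G} {g : G} (hBA : B ⊆ A) (h : GE P A g) : GE P B g := by
  obtain ⟨g', h1, h2⟩ := h
  exact ⟨g', h1.mono hBA, fun a ha => h2 a (hBA ha)⟩

lemma GE.trans {A : Set G} {g h : G} (h1 : GE P A g) (h2 : GE P (conjSet g A) h) :
    GE P A (g * h) := by
  obtain ⟨g', hg', hgg⟩ := h1
  obtain ⟨h', hh', hhh⟩ := h2
  rw [conjSet_congr hgg] at hh'
  refine ⟨g' * h', hg'.trans hh', ?_⟩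
  intro a ha
  have e1 := hhh (g⁻¹ * a * g) ⟨a, ha, rfl⟩
  have e2 := hgg a ha
  calc (g * h)⁻¹ * a * (g * h) = h⁻¹ * (g⁻¹ * a * g) * h := by group
    _ = h'⁻¹ * (g⁻¹ * a * g) * h' := e1
    _ = h'⁻¹ * (g'⁻¹ * a * g') * h' := by rw [e2]
    _ = (g' * h')⁻¹ * a * (g' * h') := by group

lemma chainOK_bind_GE {ι : Type*} {St : ι → G → Prop} {Dom : ι → Set G} {A : Set G}
    (hstep : ∀ i x (c : G), St i x → conjSet c A ⊆ Dom i → GE P (conjSet c A) x)
    {L : List (ι × G)} : ∀ (c : G), ChainOK St Dom (conjSet c A) L →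
      GE P (conjSet c A) (L.map Prod.snd).prod := by
  induction L with
  | nil => intro c _; exact ⟨1, Reach.refl _, fun a _ => by simp⟩
  | cons d L ih =>
    intro c h
    simp only [List.map_cons, List.prod_cons]
    refine GE.trans (hstep d.1 d.2 c h.1 h.2.1) ?_
    rw [← conjSet_mul]
    refine ih (c * d.2) ?_
    rw [conjSet_mul]
    exact h.2.2

lemma reach_bind_GE {ι : Type*} {St : ι → G → Prop} {Dom : ι → Set G} {A : Set G} {g : G}
    (h : Reach St Dom A g)
    (hstep : ∀ i x (c : G), St i x → conjSet c A ⊆ Dom i → GE P (conjSet c A) x) :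
    GE P A g := by
  obtain ⟨L, hL, rfl⟩ := h
  have := chainOK_bind_GE (P := P) hstep (L := L) 1 (by simpa using hL)
  simpa using this

lemma conjSet_eq_of_mem_normalizer {D : Subgroup G} {m : G} (hm : m ∈ normalizer (D : Set G)) :
    conjSet m (D : Set G) = (D : Set G) := by
  ext z
  constructor
  · rintro ⟨a, ha, rfl⟩
    have := (mem_normalizer_iff.1 (inv_mem hm) a).1 ha
    rwa [inv_inv] at this
  · intro hz
    refine ⟨m * z * m⁻¹, (mem_normalizer_iff.1 hm z).1 hz, by group⟩

section Good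

variable {D : Subgroup G}

/-- The inductive hypothesis. -/
def Large (P : Sylow p G) (D : Subgroup G) : Prop :=
  ∀ U : Subgroup G, U ≤ (P : Subgroup G) → D < U → ∀ y : G,
    conjSet y (U : Set G) ⊆ (P : Subgroup G) → GE P (U : Set G) y

/-- The residual of the image of a subgroup. -/
theorem exists_lift_residual {A : Type*} [Group A] [Finite A] {B : Type*} [Group B]
    (f : A →* B) (Z : Subgroup B) (hZ : f.range = Z) {z : B}
    (hz : z ∈ (pResidual p ↥Z).map Z.subtype) : ∃ r ∈ pResidual p A, f r = z := by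
  subst hZ
  obtain ⟨w, hw, rfl⟩ := hz
  rw [← map_pResidual_of_surjective f.rangeRestrict f.rangeRestrict_surjective] at hw
  obtain ⟨r, hr, rfl⟩ := hw
  exact ⟨r, hr, rfl⟩

/-- The order of the image of an intermediate subgroup in the quotient. -/
theorem card_map_mk (N : Subgroup G) (D : Subgroup G) [hD : (D.subgroupOf N).Normal]
    {Y : Subgroup G} (hYN : Y ≤ N) (hDY : D ≤ Y) :
    Nat.card ((Y.subgroupOf N).map (QuotientGroup.mk' (D.subgroupOf N))) = D.relIndex Y := by
  let f : ↥Y →* ↥N ⧸ D.subgroupOf N := (QuotientGroup.mk' (D.subgroupOf N)).comp (inclusion hYN)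
  have h1 : f.range = (Y.subgroupOf N).map (QuotientGroup.mk' (D.subgroupOf N)) := by
    ext x
    constructor
    · rintro ⟨y, rfl⟩
      exact ⟨inclusion hYN y, mem_subgroupOf.2 y.2, rfl⟩
    · rintro ⟨y, hy, rfl⟩
      exact ⟨⟨y, mem_subgroupOf.1 hy⟩, rfl⟩
  have h2 : f.ker = D.subgroupOf Y := by
    ext y
    rw [MonoidHom.mem_ker, mem_subgroupOf]
    show ((inclusion hYN y : ↥N) : ↥N ⧸ D.subgroupOf N) = 1 ↔ _
    rw [QuotientGroup.eq_one_iff, mem_subgroupOf]
    rfl
  rw [← h1, ← Subgroup.index_ker, h2]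
  rfl

theorem good_cp (hgood : Good P D) : (P : Subgroup G) ⊓ centralizer (D : Set G) ≤ D := by
  rintro x ⟨hxP, hxC⟩
  obtain ⟨h1, h2, h3, h4, h5⟩ := hgood.dir
  have hxM := hgood.cent hxC
  rw [← h5, sup_comm] at hxM
  have hK : (pPrimeCore p ↥(normalizer (D : Set G))).map (normalizer (D : Set G)).subtype ≤
      normalizer (D : Set G) := map_subtype_le _
  obtain ⟨d, hd, k, hk, rfl⟩ :=
    Cfsg.Agent.Lib.Coprime.Action.exists_mul_of_mem_sup hK hxM
  have hkP : k ∈ (P : Subgroup G) := by
    have : k = d⁻¹ * (d * k) := by group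
    rw [this]
    exact mul_mem (inv_mem (hgood.le hd)) hxP
  obtain ⟨k₀, hk₀, rfl⟩ := hk
  have hc : (orderOf k₀).Coprime p := orderOf_coprime_of_mem_pPrimeCore hk₀
  obtain ⟨j, hj⟩ := P.isPGroup' ⟨_, hkP⟩
  have hj' : ((k₀ : ↥(normalizer (D : Set G))) : G) ^ p ^ j = 1 := congrArg Subtype.val hj
  have hk1 : ((k₀ : ↥(normalizer (D : Set G))) : G) = 1 := by
    have e1 : orderOf ((k₀ : ↥(normalizer (D : Set G))) : G) = orderOf k₀ :=
      Subgroup.orderOf_coe _
    have e2 := orderOf_dvd_of_pow_eq_one hj'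
    rw [e1] at e2
    have e3 : orderOf k₀ = 1 := by
      have e4 : Nat.Coprime (orderOf k₀) (p ^ j) := Nat.Coprime.pow_right _ hc
      exact Nat.eq_one_of_dvd_coprimes e4 dvd_rfl e2
    have e5 : k₀ = 1 := orderOf_eq_one_iff.1 e3
    rw [e5]
    rfl
  simp only [subtype_apply, hk1, mul_one]
  exact hd

theorem good_core (hgood : Good P D) : (pPrimePCore p ↥(normalizer (D : Set G))).map (normalizer (D : Set G)).subtype =
    D ⊔ centralizer (D : Set G) := by
  obtain ⟨h1, h2, h3, h4, h5⟩ := hgood.dir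
  apply le_antisymm
  · rw [← h5]
    refine sup_le ?_ le_sup_left
    intro k hk
    refine Subgroup.mem_sup_right ?_
    rw [mem_centralizer_iff]
    intro d hd
    exact (h3 k hk d hd).symm
  · exact sup_le h2 hgood.cent

/-- The quotient map. -/
abbrev piD (D : Subgroup G) : ↥(normalizer (D : Set G)) →*
    ↥(normalizer (D : Set G)) ⧸ D.subgroupOf (normalizer (D : Set G)) :=
  QuotientGroup.mk' _

theorem piD_surj (D : Subgroup G) : Function.Surjective (piD D) := QuotientGroup.mk'_surjective _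

/-- `N_P(D)`, as a Sylow subgroup of `N(D)`. -/
noncomputable def sylT (P : Sylow p G) (D : Subgroup G)
    (htame : ¬ p ∣ ((P : Subgroup G) ⊓ normalizer (D : Set G)).relIndex (normalizer (D : Set G))) :
    Sylow p ↥(normalizer (D : Set G)) :=
  ((P.isPGroup'.to_inf_left (K := normalizer (D : Set G))).comap_subtype
    (K := normalizer (D : Set G))).toSylow htame

theorem coe_sylT (P : Sylow p G) (D : Subgroup G)
    (htame : ¬ p ∣ ((P : Subgroup G) ⊓ normalizer (D : Set G)).relIndex (normalizer (D : Set G))) :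
    (sylT P D htame : Subgroup ↥(normalizer (D : Set G))) =
      ((P : Subgroup G) ⊓ normalizer (D : Set G)).subgroupOf (normalizer (D : Set G)) := rfl

/-- The image of `N_P(D)` in `N(D)/D`. -/
noncomputable def sylT₀ (P : Sylow p G) (D : Subgroup G)
    (htame : ¬ p ∣ ((P : Subgroup G) ⊓ normalizer (D : Set G)).relIndex (normalizer (D : Set G))) :
    Sylow p (↥(normalizer (D : Set G)) ⧸ D.subgroupOf (normalizer (D : Set G))) :=
  (sylT P D htame).mapSurjective (piD_surj D)

theorem mem_P_of_mem_sylT₀ (hDP : D ≤ (P : Subgroup G))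
    (htame : ¬ p ∣ ((P : Subgroup G) ⊓ normalizer (D : Set G)).relIndex (normalizer (D : Set G)))
    (v : ↥(normalizer (D : Set G))) (h : piD D v ∈ (sylT₀ P D htame : Subgroup _)) :
    (v : G) ∈ (P : Subgroup G) := by
  rw [sylT₀, Sylow.coe_mapSurjective] at h
  obtain ⟨t, ht, hte⟩ := Subgroup.mem_map.1 h
  rw [coe_sylT, mem_subgroupOf] at ht
  have h1 : ((t : ↥(normalizer (D : Set G))) : _ ⧸ D.subgroupOf (normalizer (D : Set G))) = v := hte
  rw [QuotientGroup.eq, mem_subgroupOf] at h1
  have h2 : (v : G) = (t : G) * ((t : G)⁻¹ * v) := by group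
  rw [h2]
  refine mul_mem ht.1 (hDP ?_)
  simpa using h1

theorem mem_sylT₀_of_mem_P
    (htame : ¬ p ∣ ((P : Subgroup G) ⊓ normalizer (D : Set G)).relIndex (normalizer (D : Set G)))
    (v : ↥(normalizer (D : Set G))) (h : (v : G) ∈ (P : Subgroup G)) :
    piD D v ∈ (sylT₀ P D htame : Subgroup _) := by
  rw [sylT₀, Sylow.coe_mapSurjective]
  refine Subgroup.mem_map.2 ⟨v, ?_, rfl⟩
  rw [coe_sylT, mem_subgroupOf]
  exact ⟨h, v.2⟩

theorem ge_factA (hlarge : Large P D) (hDP : D ≤ (P : Subgroup G))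
    (htame : ¬ p ∣ ((P : Subgroup G) ⊓ normalizer (D : Set G)).relIndex (normalizer (D : Set G)))
    (m : ↥(normalizer (D : Set G))) (h : adj (sylT₀ P D htame) (piD D m • sylT₀ P D htame)) :
    GE P (D : Set G) m := by
  obtain ⟨ubar, h1, h2, h3⟩ := adj_iff.1 h
  obtain ⟨u, rfl⟩ := piD_surj D ubar
  have hu : (u : G) ∈ (P : Subgroup G) := mem_P_of_mem_sylT₀ hDP htame u h1
  rw [Graph.mem_smul_iff] at h2
  have h2' : piD D (m⁻¹ * u * m) ∈ (sylT₀ P D htame : Subgroup _) := by
    simpa [map_mul, map_inv] using h2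
  have hu2 : (m : G)⁻¹ * u * m ∈ (P : Subgroup G) := by
    have := mem_P_of_mem_sylT₀ hDP htame _ h2'
    simpa using this
  let W : Subgroup G := (P : Subgroup G) ⊓
    (P : Subgroup G).comap (MulAut.conj ((m : G)⁻¹)).toMonoidHom
  have hmemW : ∀ w, w ∈ W ↔ w ∈ (P : Subgroup G) ∧ (m : G)⁻¹ * w * m ∈ (P : Subgroup G) := by
    intro w
    show w ∈ (P : Subgroup G) ∧ (MulAut.conj ((m : G)⁻¹)) w ∈ (P : Subgroup G) ↔ _
    simp [MulAut.conj_apply]
  have hDW : D ≤ W := by
    intro d hd
    rw [hmemW]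
    refine ⟨hDP hd, hDP ?_⟩
    have := (mem_normalizer_iff.1 (inv_mem m.2) d).1 hd
    simpa using this
  have hDltW : D < W := by
    refine lt_of_le_of_ne hDW ?_
    intro e
    have huW : (u : G) ∈ W := (hmemW _).2 ⟨hu, hu2⟩
    rw [← e] at huW
    apply h3
    exact (QuotientGroup.eq_one_iff u).2 (mem_subgroupOf.2 huW)
  have hconj : conjSet (m : G) (W : Set G) ⊆ (P : Subgroup G) := by
    rintro _ ⟨w, hw, rfl⟩
    exact ((hmemW w).1 hw).2
  exact (hlarge W inf_le_left hDltW _ hconj).mono hDW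

theorem ge_factB (hlarge : Large P D) (hDP : D ≤ (P : Subgroup G))
    (htame : ¬ p ∣ ((P : Subgroup G) ⊓ normalizer (D : Set G)).relIndex (normalizer (D : Set G)))
    (m : ↥(normalizer (D : Set G))) (h : piD D m • sylT₀ P D htame = sylT₀ P D htame) :
    GE P (D : Set G) m := by
  by_cases hDeq : D = (P : Subgroup G)
  · refine ⟨m, Reach.single (i := none) ?_ ?_, fun _ _ => rfl⟩
    · show (m : G) ∈ normalizer ((P : Subgroup G) : Set G)
      rw [← hDeq]
      exact m.2
    · show (D : Set G) ⊆ ((P : Subgroup G) : Set G)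
      exact hDP
  · have hlt : D < (P : Subgroup G) := lt_of_le_of_ne hDP hDeq
    obtain ⟨u, hu, huD⟩ := SetLike.exists_of_lt (lt_inf_normalizer P.isPGroup' hlt)
    refine ge_factA hlarge hDP htame m ?_
    rw [h]
    let v : ↥(normalizer (D : Set G)) := ⟨u, hu.2⟩
    have hv := mem_sylT₀_of_mem_P htame v hu.1
    refine adj_iff.2 ⟨piD D v, hv, hv, ?_⟩
    intro h0
    apply huD
    have : v ∈ D.subgroupOf (normalizer (D : Set G)) := (QuotientGroup.eq_one_iff v).1 h0
    exact mem_subgroupOf.1 this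

theorem ge_factC (hlarge : Large P D) (hDP : D ≤ (P : Subgroup G))
    (htame : ¬ p ∣ ((P : Subgroup G) ⊓ normalizer (D : Set G)).relIndex (normalizer (D : Set G)))
    {T' : Sylow p (↥(normalizer (D : Set G)) ⧸ D.subgroupOf (normalizer (D : Set G)))}
    (h : Relation.ReflTransGen adj (sylT₀ P D htame) T') :
    ∀ m : ↥(normalizer (D : Set G)), piD D m • sylT₀ P D htame = T' → GE P (D : Set G) m := by
  induction h with
  | refl => exact fun m hm => ge_factB hlarge hDP htame m hm
  | @tail b c hb hbc ih =>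
    intro m hm
    obtain ⟨l, hl⟩ := MulAction.exists_smul_eq
      (↥(normalizer (D : Set G)) ⧸ D.subgroupOf (normalizer (D : Set G))) (sylT₀ P D htame) b
    obtain ⟨m', rfl⟩ := piD_surj D l
    have h1 := ih m' hl
    have h2 : adj (sylT₀ P D htame) (piD D (m'⁻¹ * m) • sylT₀ P D htame) := by
      have h3 := adj_smul (piD D m')⁻¹ hbc
      rw [← hl, inv_smul_smul, ← hm, ← mul_smul] at h3
      rw [map_mul, map_inv]
      exact h3
    have h3 := ge_factA hlarge hDP htame _ h2
    have e : (m : G) = m' * ((m'⁻¹ * m : ↥(normalizer (D : Set G))) : G) := by simp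
    rw [e]
    refine h1.trans ?_
    rw [conjSet_eq_of_mem_normalizer m'.2]
    exact h3

theorem exists_ess (hgood : Good P D) (hDP : D ≤ (P : Subgroup G))
    (htame : ¬ p ∣ ((P : Subgroup G) ⊓ normalizer (D : Set G)).relIndex (normalizer (D : Set G)))
    (hc : ¬ IsSylowChainConnected p
      (↥(normalizer (D : Set G)) ⧸ D.subgroupOf (normalizer (D : Set G)))) :
    ∃ X : Subgroup G, EssD P D X ∧ ∀ x : ↥(normalizer (D : Set G)),
      ∃ x₀ ∈ (pResidual p ↥X).map X.subtype, ∃ m : ↥(normalizer (D : Set G)),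
        (x : G) = x₀ * m ∧ piD D m ∈ comp (sylT₀ P D htame) := by
  classical
  obtain ⟨Xb, hXbn, hXbd, hXbmin⟩ := exists_min_normal hc
  haveI := hXbn
  let X : Subgroup G := (Xb.comap (piD D)).map (normalizer (D : Set G)).subtype
  have hXle : X ≤ normalizer (D : Set G) := map_subtype_le _
  have hDX : D ≤ X := by
    intro d hd
    refine ⟨⟨d, le_normalizer hd⟩, ?_, rfl⟩
    have : piD D ⟨d, le_normalizer hd⟩ = 1 :=
      (QuotientGroup.eq_one_iff _).2 (mem_subgroupOf.2 hd)
    show piD D ⟨d, le_normalizer hd⟩ ∈ Xb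
    rw [this]
    exact one_mem _
  have hXsub : X.subgroupOf (normalizer (D : Set G)) = Xb.comap (piD D) := by
    ext n
    rw [mem_subgroupOf]
    constructor
    · rintro ⟨y, hy, hyn⟩
      have : y = n := Subtype.ext hyn
      rwa [← this]
    · intro h
      exact ⟨n, h, rfl⟩
  have hXcard : Nat.card ((X.subgroupOf (normalizer (D : Set G))).map (piD D)) = D.relIndex X :=
    card_map_mk _ D hXle hDX
  refine ⟨X, ⟨hDP, htame, good_cp hgood, good_core hgood, hc, hDX, hXle, ?_, ?_, ?_⟩, ?_⟩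
  · rw [hXsub]
    infer_instance
  · rw [← hXcard, hXsub, Subgroup.map_comap_eq_self_of_surjective (piD_surj D)]
    exact hXbd
  · intro Y hDY hYN hYn hYd
    rw [← card_map_mk _ D hYN hDY] at hYd
    have h1 : ((Y.subgroupOf (normalizer (D : Set G))).map (piD D)).Normal :=
      hYn.map _ (piD_surj D)
    have h2 := hXbmin _ h1 hYd
    rintro _ ⟨n, hn, rfl⟩
    obtain ⟨y, hy, hye⟩ := h2 hn
    have h3 : ((y : ↥(normalizer (D : Set G))) : _ ⧸ D.subgroupOf (normalizer (D : Set G))) = n := hye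
    rw [QuotientGroup.eq, mem_subgroupOf] at h3
    have h4 : (n : G) = (y : G) * ((y⁻¹ * n : ↥(normalizer (D : Set G))) : G) := by simp
    show (n : G) ∈ Y
    rw [h4]
    exact mul_mem (mem_subgroupOf.1 hy) (hDY h3)
  · intro x
    have hXd : p ∣ Nat.card Xb := hXbd
    obtain ⟨y, hy, mb, hmb, e⟩ := exists_residual_mul (sylT₀ P D htame) Xb hXd (piD D x)
    let f : ↥X →* _ := (piD D).comp (inclusion hXle)
    have hfr : f.range = Xb := by
      ext z
      constructor
      · rintro ⟨w, rfl⟩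
        obtain ⟨n, hn, hnw⟩ := w.2
        have : inclusion hXle w = n := Subtype.ext hnw.symm
        show piD D (inclusion hXle w) ∈ Xb
        rw [this]
        exact hn
      · intro hz
        obtain ⟨n, rfl⟩ := piD_surj D z
        exact ⟨⟨n, n, hz, rfl⟩, rfl⟩
    obtain ⟨r, hr, hre⟩ := exists_lift_residual f Xb hfr hy
    refine ⟨(r : G), ⟨r, hr, rfl⟩, (inclusion hXle r)⁻¹ * x, by simp, ?_⟩
    have : piD D ((inclusion hXle r)⁻¹ * x) = mb := by
      rw [map_mul, map_inv, e]
      have : piD D (inclusion hXle r) = y := hre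
      rw [this]
      group
    rw [this]
    exact hmb

theorem ge_of_good (hgood : Good P D) (hlarge : Large P D) (x : G) (hx : x ∈ normalizer (D : Set G)) : GE P (D : Set G) x := by
  classical
  have hDP := hgood.le
  have htame := hgood.tame
  by_cases hc : IsSylowChainConnected p
      (↥(normalizer (D : Set G)) ⧸ D.subgroupOf (normalizer (D : Set G)))
  · exact ge_factC hlarge hDP htame (rt_of_connected hc _ _) ⟨x, hx⟩ rfl
  · obtain ⟨X, hE, hfac⟩ := exists_ess hgood hDP htame hc
    obtain ⟨x₀, hx₀, m, e, hm⟩ := hfac ⟨x, hx⟩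
    have hx₀N : x₀ ∈ normalizer (D : Set G) := by
      obtain ⟨r, -, rfl⟩ := hx₀
      exact hE.Xle r.2
    have h1 : GE P (D : Set G) x₀ :=
      ⟨x₀, Reach.single (i := some (D, X)) ⟨hE, hx₀⟩ subset_rfl, fun _ _ => rfl⟩
    have h2 : GE P (D : Set G) m := ge_factC hlarge hDP htame hm m rfl
    have e' : x = x₀ * m := e
    rw [e']
    refine h1.trans ?_
    rw [conjSet_eq_of_mem_normalizer hx₀N]
    exact h2

end Good

/-- The main induction. -/
theorem ge_of_tame (D : Subgroup G) (hDP : D ≤ (P : Subgroup G))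
    (htame : ¬ p ∣ ((P : Subgroup G) ⊓ normalizer (D : Set G)).relIndex (normalizer (D : Set G)))
    (x : G) (hx : x ∈ normalizer (D : Set G)) : GE P (D : Set G) x := by
  classical
  induction hn : Nat.card G - Nat.card D using Nat.strong_induction_on generalizing D x with
  | _ n ih =>
    have hlarge : ∀ U : Subgroup G, U ≤ (P : Subgroup G) → D < U → ∀ y : G,
        conjSet y (U : Set G) ⊆ (P : Subgroup G) → GE P (U : Set G) y := by
      intro U hUP hDU y hconj
      have hUreach := reach_of_conj (P := P) (A := (U : Set G)) (fun u hu => hUP hu) hconj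
      refine reach_bind_GE hUreach ?_
      intro Q x₁ c₁ hst hsub
      have hsm : Nat.card D < Nat.card ((P : Subgroup G) ⊓ (Q : Subgroup G) : Subgroup G) := by
        have h1 : Nat.card D < Nat.card U := card_lt_of_lt' hDU
        have h2 : Nat.card U ≤
            Nat.card ((P : Subgroup G) ⊓ (Q : Subgroup G) : Subgroup G) := by
          have hinj : Function.Injective (fun a : G => c₁⁻¹ * a * c₁) := by
            intro a b hab
            simpa using hab
          have hcard := Set.ncard_image_of_injective (U : Set G) hinj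
          have hle := Set.ncard_le_ncard hsub (Set.toFinite _)
          rw [conjSet, hcard] at hle
          rwa [DomA, ← Nat.card_coe_set_eq, ← Nat.card_coe_set_eq] at hle
        exact lt_of_lt_of_le h1 h2
      have hle : Nat.card ((P : Subgroup G) ⊓ (Q : Subgroup G) : Subgroup G) ≤ Nat.card G :=
        Subgroup.card_le_card_group _
      have h0 : n = Nat.card G - Nat.card D := hn.symm
      exact (ih _ (by omega) ((P : Subgroup G) ⊓ (Q : Subgroup G)) inf_le_left hst.2.1 x₁ hst.1
        rfl).mono hsub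
    rcases good_or_step (P := P) D hDP htame x hx with hgood | ⟨U, hUP, hDU, c, hc, y, hy, e⟩
    · exact ge_of_good hgood hlarge x hx
    · have hconj : conjSet y (U : Set G) ⊆ (P : Subgroup G) := by
        rintro _ ⟨u, hu, rfl⟩
        have := (mem_normalizer_iff.1 (inv_mem hy) u).1 hu
        rw [inv_inv] at this
        exact hUP this
      obtain ⟨g', hg', hgg⟩ := (hlarge U hUP hDU y hconj).mono
        (fun a ha => hDU.le ha : (D : Set G) ⊆ U)
      refine ⟨g', hg', ?_⟩
      intro a ha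
      rw [← hgg a ha, e]
      have hca : c⁻¹ * a * c = a := by
        have := mem_centralizer_iff.1 hc a ha
        rw [mul_assoc, this]
        group
      calc (c * y)⁻¹ * a * (c * y) = y⁻¹ * (c⁻¹ * a * c) * y := by group
        _ = y⁻¹ * a * y := by rw [hca]

/-- The main theorem, chain form. -/
theorem ge_main {A : Set G} {g : G} (hA : A ⊆ (P : Subgroup G))
    (hAg : conjSet g A ⊆ (P : Subgroup G)) : GE P A g := by
  refine reach_bind_GE (reach_of_conj hA hAg) ?_
  intro Q x c hst hsub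
  exact (ge_of_tame ((P : Subgroup G) ⊓ (Q : Subgroup G)) inf_le_left hst.2.1 x hst.1).mono hsub

section NormalForm

variable (P) in
/-- The essential labels. -/
def StN (c : Subgroup G × Subgroup G) (x : G) : Prop :=
  EssD P c.1 c.2 ∧ x ∈ (pResidual p ↥c.2).map c.2.subtype

/-- The domains of the essential labels. -/
def DomN (c : Subgroup G × Subgroup G) : Set G := (c.1 : Set G)

/-- Conjugating a labelled step. -/
def conjLab (y : G) (c : (Subgroup G × Subgroup G) × G) : (Subgroup G × Subgroup G) × G :=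
  ((c.1.1.map (MulAut.conj y).toMonoidHom, c.1.2.map (MulAut.conj y).toMonoidHom),
    MulAut.conj y c.2)

theorem chain_conj {y : G} (hy : y ∈ normalizer ((P : Subgroup G) : Set G)) :
    ∀ {L : List ((Subgroup G × Subgroup G) × G)} {A : Set G},
      ChainOK (StN P) DomN (conjSet y A) L → ChainOK (StN P) DomN A (L.map (conjLab y)) := by
  have hP : (P : Subgroup G).map (MulAut.conj y).toMonoidHom = P :=
    Subgroup.mem_normalizer_iff_map_conj_eq.1 hy
  intro L
  induction L with
  | nil => intro A _; trivial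
  | cons c L ih =>
    intro A h
    obtain ⟨h1, h2, h3⟩ := h
    refine ⟨⟨h1.1.map _ hP, mem_residual_map h1.2 _⟩, ?_, ih ?_⟩
    · intro a ha
      have := h2 ⟨a, ha, rfl⟩
      exact ⟨_, this, by simp [MulAut.conj_apply]; group⟩
    · have e : conjSet y (conjSet (MulAut.conj y c.2) A) = conjSet c.2 (conjSet y A) := by
        rw [← conjSet_mul, ← conjSet_mul]
        congr 1
        simp [MulAut.conj_apply]
      rw [show (conjLab y c).2 = MulAut.conj y c.2 from rfl, e]
      exact h3

theorem prod_conj (y : G) (L : List ((Subgroup G × Subgroup G) × G)) :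
    ((L.map (conjLab y)).map Prod.snd).prod = y * (L.map Prod.snd).prod * y⁻¹ := by
  induction L with
  | nil => simp
  | cons c L ih =>
    simp only [List.map_cons, List.prod_cons, ih]
    show MulAut.conj y c.2 * _ = _
    simp only [MulAut.conj_apply]
    group

theorem normal_form : ∀ {L : List (Option (Subgroup G × Subgroup G) × G)} {A : Set G},
    ChainOK (StE P) (DomE P) A L →
    ∃ (L' : List ((Subgroup G × Subgroup G) × G)) (y : G),
      y ∈ normalizer ((P : Subgroup G) : Set G) ∧ ChainOK (StN P) DomN A L' ∧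
      (L.map Prod.snd).prod = (L'.map Prod.snd).prod * y := by
  intro L
  induction L with
  | nil => intro A _; exact ⟨[], 1, one_mem _, trivial, by simp⟩
  | cons c L ih =>
    intro A h
    obtain ⟨h1, h2, h3⟩ := h
    obtain ⟨L', y, hy, hL', he⟩ := ih h3
    obtain ⟨o, x⟩ := c
    cases o with
    | none =>
      refine ⟨L'.map (conjLab x), x * y, mul_mem h1 hy, chain_conj h1 hL', ?_⟩
      simp only [List.map_cons, List.prod_cons, he, prod_conj]
      group
    | some d =>
      refine ⟨(d, x) :: L', y, hy, ⟨h1, h2, hL'⟩, ?_⟩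
      simp only [List.map_cons, List.prod_cons, he]
      group

end NormalForm

/-- The strong Alperin--Goldschmidt theorem, in the form of the statement. -/
theorem strong_fin (A : Set G) (g : G) (hA : A ⊆ (P : Subgroup G))
    (hAg : (fun a => g⁻¹ * a * g) '' A ⊆ (P : Subgroup G)) :
    ∃ (n : ℕ) (H X : Fin n → Subgroup G) (x : Fin n → G) (c y : G),
      c ∈ centralizer A ∧ y ∈ normalizer ((P : Subgroup G) : Set G) ∧
      g = c * (List.ofFn x).prod * y ∧
      ∀ i : Fin n, EssD P (H i) (X i) ∧ x i ∈ (pResidual p ↥(X i)).map (X i).subtype ∧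
        (fun a => (((List.ofFn x).take i.val).prod)⁻¹ * a * ((List.ofFn x).take i.val).prod) '' A ⊆
          (H i : Set G) := by
  obtain ⟨g', ⟨L, hL, rfl⟩, hgg⟩ := ge_main (P := P) (g := g) hA hAg
  have hc : g * ((L.map Prod.snd).prod)⁻¹ ∈ centralizer A := by
    rw [mem_centralizer_iff]
    intro a ha
    have h := hgg a ha
    set g' := (L.map Prod.snd).prod
    have h2 : g * (g⁻¹ * a * g) * g'⁻¹ = g * (g'⁻¹ * a * g') * g'⁻¹ := by rw [h]
    calc a * (g * g'⁻¹) = g * (g⁻¹ * a * g) * g'⁻¹ := by group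
      _ = g * (g'⁻¹ * a * g') * g'⁻¹ := h2
      _ = g * g'⁻¹ * a := by group
  obtain ⟨L', y, hy, hL', he⟩ := normal_form hL
  obtain ⟨n, lab, x, hprod, hSt, h0, hstep⟩ :=
    Reach.exists_ofFn (St := StN P) (Dom := DomN) (A := A) ⟨L', hL', rfl⟩
  refine ⟨n, fun i => (lab i).1, fun i => (lab i).2, x, g * ((L.map Prod.snd).prod)⁻¹, y, hc, hy, ?_, ?_⟩
  · rw [hprod, mul_assoc, mul_assoc, ← he]
    group
  · intro i
    refine ⟨(hSt i).1, (hSt i).2, ?_⟩
    obtain ⟨i, hi⟩ := i
    cases i with
    | zero =>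
      have h01 : A ⊆ ((lab ⟨0, hi⟩).1 : Set G) := h0 hi
      simpa using h01
    | succ j =>
      exact hstep ⟨j, by omega⟩ hi

end Cfsg.Agent.Lib.AlperinStrong.Main
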